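import Groth.Agent.EtIntDescLib.Stalk
import Groth.Agent.EtSecDescLib.Cech
import Groth.Agent.SpSeqE1.Resolution
import Mathlib.Algebra.Homology.Augment

/-!
# The Čech resolution of a sheaf along an integral surjection
-/

set_option autoImplicit false
set_option backward.isDefEq.respectTransparency false
set_option backward.isDefEq.respectTransparency.types false

universe u

open CategoryTheory CategoryTheory.Limits AlgebraicGeometry Opposite Simplicial
open Groth.Agent.EtSecDescLib Groth.Agent.EtPtsLib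

noncomputable section

namespace Groth.Agent.EtIntDescLib

instance additive_stalkF {X : Scheme.{u}} {Ω : Type u} [Field Ω] [IsAlgClosed Ω]
    (ξ : Spec (CommRingCat.of Ω) ⟶ X) : (stalkF ξ).Additive := by
  haveI : PreservesFiniteLimits (stalkF ξ) := inferInstance
  exact Functor.additive_of_preserves_binary_products _

/-- Exactness of sheaves is detected at geometric points with algebraically closed fields. -/
theorem exact_of_stalks_alg {X : Scheme.{u}} (S : ShortComplex (EtCoh.Ab X))
    (h : ∀ x : X, (S.map (EtCoh.stalk (geomPtAlg x))).Exact) : S.Exact := by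
  rw [ShortComplex.exact_iff_isZero_homology]
  haveI : IsIso (0 : S.homology ⟶ S.homology) := isIso_of_alg_ab _ fun x => by
    have hz : IsZero ((EtCoh.stalk (geomPtAlg x)).obj S.homology) :=
      ((ShortComplex.exact_iff_isZero_homology _).1 (h x)).of_iso (S.mapHomologyIso _).symm
    haveI := AddCommGrpCat.subsingleton_of_isZero hz
    exact ⟨fun a b _ => Subsingleton.elim a b, fun b => ⟨b, Subsingleton.elim _ b⟩⟩
  exact IsZero.of_iso (isZero_zero _)
    { hom := 0
      inv := 0
      hom_inv_id := by rw [zero_comp]; exact ((IsIso.hom_inv_id (0 : S.homology ⟶ S.homology)).symm.trans zero_comp).symm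
      inv_hom_id := (isZero_zero _).eq_of_src _ _ }

section Pow

variable {X Y : Scheme.{u}} (f : X ⟶ Y)

theorem isPullback_pow (n : ℕ) :
    IsPullback (reindex f (Fin.succ : Fin (n + 1) → Fin (n + 2))).left
      (WidePullback.π (fun _ : Fin (n + 2) => f) 0) (WidePullback.base (fun _ : Fin (n + 1) => f)) f := by
  have w : (reindex f (Fin.succ : Fin (n + 1) → Fin (n + 2))).left ≫ WidePullback.base (fun _ : Fin (n + 1) => f) =
      WidePullback.π (fun _ : Fin (n + 2) => f) 0 ≫ f :=
    (Over.w (reindex f (Fin.succ : Fin (n + 1) → Fin (n + 2)))).trans (π_base f 0).symm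
  refine IsPullback.mk' w ?_ ?_
  · intro W a b h₁ h₂
    have hj : ∀ j, a ≫ WidePullback.π (fun _ : Fin (n + 2) => f) j = b ≫ WidePullback.π _ j := by
      intro j
      refine Fin.cases h₂ (fun j => ?_) j
      rw [← reindex_π f Fin.succ j, ← Category.assoc, h₁, Category.assoc]
    refine WidePullback.hom_ext _ _ _ hj ?_
    rw [← π_base f 0, ← Category.assoc, hj 0, Category.assoc]
  · intro W a b hab
    refine ⟨WidePullback.lift (b ≫ f) (Fin.cases b fun j => a ≫ WidePullback.π _ j) (fun j => ?_), ?_, ?_⟩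
    · refine Fin.cases rfl (fun j => ?_) j
      rw [Fin.cases_succ, Category.assoc, π_base, hab]
    · refine WidePullback.hom_ext _ _ _ (fun j => ?_) ?_
      · rw [Category.assoc, reindex_π, WidePullback.lift_π, Fin.cases_succ]
      · rw [Category.assoc, w, ← Category.assoc, WidePullback.lift_π, Fin.cases_zero, hab]
    · rw [WidePullback.lift_π, Fin.cases_zero]

theorem isIntegralHom_pow [IsIntegralHom f] (n : ℕ) : IsIntegralHom (pow f n).hom := by
  show IsIntegralHom (WidePullback.base (fun _ : Fin (n + 1) => f))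
  induction n with
  | zero =>
    haveI : IsIso (WidePullback.π (fun _ : Fin (0 + 1) => f) 0) :=
      ⟨WidePullback.lift f (fun _ => 𝟙 X) (fun _ => Category.id_comp f),
        WidePullback.hom_ext _ _ _ (fun j => by
            obtain rfl : j = 0 := Fin.fin_one_eq_zero j
            rw [Category.assoc, WidePullback.lift_π, Category.id_comp]
            exact Category.comp_id _)
          (by rw [Category.assoc, WidePullback.lift_base, Category.id_comp, π_base]),
        WidePullback.lift_π _ _ _ _ _⟩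
    rw [← π_base f (0 : Fin (0 + 1))]
    infer_instance
  | succ n ih =>
    haveI : IsIntegralHom (WidePullback.π (fun _ : Fin (n + 2) => f) 0) :=
      MorphismProperty.of_isPullback (isPullback_pow f n) ih
    rw [← π_base f (0 : Fin (n + 2))]
    infer_instance

variable {Ω : Type u} [Field Ω] [IsAlgClosed Ω] (ξ : Spec (CommRingCat.of Ω) ⟶ Y) (e : EtaleSplit.GPts f ξ)

/-- Prepend the chosen point. -/
def extPt (n : ℕ) (ζ : EtaleSplit.GPts (pow f n).hom ξ) : EtaleSplit.GPts (pow f (n + 1)).hom ξ :=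
  ⟨WidePullback.lift ξ (Fin.cases e.1 fun j => ζ.1 ≫ WidePullback.π _ j) (fun j => by
      refine Fin.cases e.2 (fun j => ?_) j
      rw [Fin.cases_succ, Category.assoc, π_base]
      exact ζ.2),
    WidePullback.lift_base _ _ _ _⟩

/-- Prepend the chosen point, on the fibres. -/
def extFibre (n : ℕ) : pullback (pow f n).hom ξ ⟶ pullback (pow f (n + 1)).hom ξ :=
  pullback.lift
    (WidePullback.lift (pullback.snd (pow f n).hom ξ ≫ ξ)
      (Fin.cases (pullback.snd (pow f n).hom ξ ≫ e.1) fun j => pullback.fst (pow f n).hom ξ ≫ WidePullback.π _ j)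
      (fun j => by
        refine Fin.cases ?_ (fun j => ?_) j
        · rw [Fin.cases_zero, Category.assoc, e.2]
        · rw [Fin.cases_succ, Category.assoc, π_base]
          exact pullback.condition))
    (pullback.snd (pow f n).hom ξ) (WidePullback.lift_base _ _ _ _)

theorem gptPoint_extPt (n : ℕ) (ζ : EtaleSplit.GPts (pow f n).hom ξ) :
    extFibre f ξ e n (gptPoint (pow f n).hom ξ ζ) = gptPoint (pow f (n + 1)).hom ξ (extPt f ξ e n ζ) := by
  rw [gptPoint, gptPoint, ← EtaleSplit.pt_comp]
  congr 1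
  refine pullback.hom_ext ?_ ?_
  · rw [Category.assoc, extFibre, pullback.lift_fst, pullback.lift_fst]
    refine WidePullback.hom_ext _ _ _ (fun j => ?_) ?_
    · rw [Category.assoc, WidePullback.lift_π, extPt, WidePullback.lift_π]
      refine Fin.cases ?_ (fun j => ?_) j
      · rw [Fin.cases_zero, Fin.cases_zero, ← Category.assoc, pullback.lift_snd]
        exact Category.id_comp _
      · rw [Fin.cases_succ, Fin.cases_succ, ← Category.assoc, pullback.lift_fst]
    · rw [Category.assoc, WidePullback.lift_base, extPt, WidePullback.lift_base, ← Category.assoc, pullback.lift_snd]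
      exact Category.id_comp _
  · refine ((Category.assoc _ _ _).trans (congrArg (_ ≫ ·) (pullback.lift_snd _ _ _))).trans ?_
    exact (pullback.lift_snd _ _ _).trans (pullback.lift_snd _ _ _).symm

theorem extPt_π_zero (n : ℕ) (ζ : EtaleSplit.GPts (pow f n).hom ξ) :
    (extPt f ξ e n ζ).1 ≫ WidePullback.π (fun _ : Fin (n + 2) => f) 0 = e.1 :=
  WidePullback.lift_π _ _ _ _ _

theorem extPt_π_succ (n : ℕ) (ζ : EtaleSplit.GPts (pow f n).hom ξ) (j : Fin (n + 1)) :
    (extPt f ξ e n ζ).1 ≫ WidePullback.π (fun _ : Fin (n + 2) => f) j.succ = ζ.1 ≫ WidePullback.π _ j := by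
  show WidePullback.lift _ _ _ ≫ _ = _
  rw [WidePullback.lift_π, Fin.cases_succ]

theorem gpt_ext {n : ℕ} {a b : EtaleSplit.GPts (pow f n).hom ξ}
    (h : ∀ j, a.1 ≫ WidePullback.π (fun _ : Fin (n + 1) => f) j = b.1 ≫ WidePullback.π _ j) : a = b :=
  Subtype.ext (WidePullback.hom_ext _ _ _ h (a.2.trans b.2.symm))

/-- The point of the zeroth power given by the chosen point. -/
def basePt : EtaleSplit.GPts (pow f 0).hom ξ :=
  ⟨WidePullback.lift ξ (fun _ => e.1) (fun _ => e.2), WidePullback.lift_base _ _ _ _⟩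

theorem face_zero_extPt (n : ℕ) (ζ : EtaleSplit.GPts (pow f n).hom ξ) :
    mapPt ξ (reindex f ((0 : Fin (n + 2)).succAbove)) (extPt f ξ e n ζ) = ζ := by
  refine gpt_ext f ξ fun j => ?_
  show (_ ≫ _) ≫ _ = _
  rw [Category.assoc, reindex_π, Fin.succAbove_zero, extPt_π_succ]

theorem face_succ_extPt (n : ℕ) (i : Fin (n + 2)) (ζ : EtaleSplit.GPts (pow f (n + 1)).hom ξ) :
    mapPt ξ (reindex f i.succ.succAbove) (extPt f ξ e (n + 1) ζ) =
      extPt f ξ e n (mapPt ξ (reindex f i.succAbove) ζ) := by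
  refine gpt_ext f ξ fun j => ?_
  show (_ ≫ _) ≫ _ = _
  rw [Category.assoc, reindex_π]
  refine Fin.cases ?_ (fun j => ?_) j
  · rw [Fin.succ_succAbove_zero, extPt_π_zero, extPt_π_zero]
  · rw [Fin.succ_succAbove_succ, extPt_π_succ, extPt_π_succ]
    show _ = (_ ≫ _) ≫ _
    rw [Category.assoc, reindex_π]

theorem face_one_extPt (ζ : EtaleSplit.GPts (pow f 0).hom ξ) :
    mapPt ξ (reindex f ((1 : Fin 2).succAbove)) (extPt f ξ e 0 ζ) = basePt f ξ e := by
  refine gpt_ext f ξ fun j => ?_
  show (_ ≫ _) ≫ _ = WidePullback.lift _ _ _ ≫ _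
  rw [Category.assoc, reindex_π, WidePullback.lift_π]
  obtain rfl : j = 0 := Fin.fin_one_eq_zero j
  rw [show (1 : Fin 2).succAbove 0 = 0 from rfl, extPt_π_zero]

end Pow

section Complex

variable {X Y : Scheme.{u}} (f : X ⟶ Y) (F : EtCoh.Ab Y)

/-- The cosimplicial sheaf. -/
abbrev cechCosimp : CosimplicialObject (EtCoh.Ab Y) := powFunctor f ⋙ pushResFunctor F

/-- The Čech complex of sheaves. -/
def cechCx : CochainComplex (EtCoh.Ab Y) ℕ :=
  (AlgebraicTopology.alternatingCofaceMapComplex _).obj (cechCosimp f F)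

/-- The differential. -/
def dPush (n : ℕ) : pushRes F (pow f n) ⟶ pushRes F (pow f (n + 1)) := (cechCx f F).d n (n + 1)

theorem cechCx_d (n : ℕ) :
    dPush f F n =
      ∑ i : Fin (n + 2), (-1 : ℤ) ^ (i : ℕ) • coface F (reindex f i.succAbove) := by
  have h : (cechCx f F).d n (n + 1) = AlgebraicTopology.AlternatingCofaceMapComplex.objD (cechCosimp f F) n :=
    (dif_pos rfl).trans (Category.comp_id _)
  refine h.trans ?_
  rfl

theorem aug_d : aug F (pow f 0) ≫ (cechCx f F).d 0 1 = 0 := by
  show aug F (pow f 0) ≫ dPush f F 0 = 0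
  rw [cechCx_d, Fin.sum_univ_two, Preadditive.comp_add, Preadditive.comp_zsmul, Preadditive.comp_zsmul,
    aug_coface, aug_coface, Fin.val_zero, Fin.val_one, pow_zero, pow_one, one_smul, neg_one_smul, add_neg_cancel]

/-- The augmented complex. -/
def augCx : CochainComplex (EtCoh.Ab Y) ℕ :=
  CochainComplex.augment (cechCx f F) (aug F (pow f 0)) (aug_d f F)

variable {Ω : Type u} [Field Ω] [IsAlgClosed Ω] (ξ : Spec (CommRingCat.of Ω) ⟶ Y)

theorem d_val (n : ℕ) (ζ : EtaleSplit.GPts (pow f (n + 1)).hom ξ)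
    (x : ToType ((stalkF ξ).obj (pushRes F (pow f n)))) :
    val F ξ ζ ((stalkF ξ).map (dPush f F n) x) =
      ∑ i : Fin (n + 2), (-1 : ℤ) ^ (i : ℕ) • val F ξ (mapPt ξ (reindex f i.succAbove) ζ) x := by
  let ev : ((stalkF ξ).obj (pushRes F (pow f n)) ⟶ (stalkF ξ).obj F) →+ ToType ((stalkF ξ).obj F) :=
    { toFun := fun g => g.hom x, map_zero' := rfl, map_add' := fun _ _ => rfl }
  have h : (stalkF ξ).map (dPush f F n) ≫
      val F ξ ζ = ∑ i : Fin (n + 2), (-1 : ℤ) ^ (i : ℕ) • val F ξ (mapPt ξ (reindex f i.succAbove) ζ) := by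
    rw [cechCx_d, Functor.map_sum, Preadditive.sum_comp]
    refine Finset.sum_congr rfl fun i _ => ?_
    rw [Functor.map_zsmul, Preadditive.zsmul_comp, coface_val]
  refine (ConcreteCategory.comp_apply _ _ x).symm.trans ?_
  refine (congrArg ev h).trans ((map_sum ev _ _).trans (Finset.sum_congr rfl fun i _ => ?_))
  exact map_zsmul ev _ _

theorem aug_val_apply {Z : Over Y} (ζ : EtaleSplit.GPts Z.hom ξ) (v : ToType ((stalkF ξ).obj F)) :
    val F ξ ζ ((stalkF ξ).map (aug F Z) v) = v := by
  refine (ConcreteCategory.comp_apply _ _ v).symm.trans ?_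
  rw [aug_val]
  rfl

variable [IsIntegralHom f] (e : EtaleSplit.GPts f ξ)

include e

theorem exists_extend (n : ℕ) (x : ToType ((stalkF ξ).obj (pushRes F (pow f (n + 1))))) :
    ∃ y : ToType ((stalkF ξ).obj (pushRes F (pow f n))), ∀ ζ, val F ξ ζ y = val F ξ (extPt f ξ e n ζ) x := by
  haveI := isIntegralHom_pow f n
  refine exists_of_isLocConst F ξ _ fun ζ₀ => ?_
  obtain ⟨O, hO, h0, hc⟩ := isLocConst_val F ξ x (extPt f ξ e n ζ₀)
  refine ⟨extFibre f ξ e n ⁻¹' O, hO.preimage (extFibre f ξ e n).continuous, ?_, fun ζ hζ => hc _ ?_⟩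
  · rw [Set.mem_preimage, gptPoint_extPt]
    exact h0
  · rw [Set.mem_preimage, gptPoint_extPt] at hζ
    exact hζ

theorem exists_preimage (n : ℕ) (x : ToType ((stalkF ξ).obj (pushRes F (pow f (n + 1)))))
    (hx : (stalkF ξ).map (dPush f F (n + 1)) x = 0) :
    ∃ y : ToType ((stalkF ξ).obj (pushRes F (pow f n))),
      (stalkF ξ).map (dPush f F n) y = x := by
  haveI := isIntegralHom_pow f (n + 1)
  obtain ⟨y, hy⟩ := exists_extend f F ξ e n x
  refine ⟨y, val_ext F ξ fun ζ => ?_⟩
  have h := d_val f F ξ (n + 1) (extPt f ξ e (n + 1) ζ) x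
  rw [hx, map_zero, Fin.sum_univ_succ, face_zero_extPt, Fin.val_zero, pow_zero, one_smul] at h
  rw [d_val, eq_neg_of_add_eq_zero_left h.symm, ← Finset.sum_neg_distrib]
  refine Finset.sum_congr rfl fun i _ => ?_
  rw [hy, face_succ_extPt, Fin.val_succ, pow_succ, mul_neg, mul_one, neg_smul, neg_neg]

theorem exists_preimage_zero (x : ToType ((stalkF ξ).obj (pushRes F (pow f 0))))
    (hx : (stalkF ξ).map (dPush f F 0) x = 0) :
    ∃ v : ToType ((stalkF ξ).obj F), (stalkF ξ).map (aug F (pow f 0)) v = x := by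
  haveI := isIntegralHom_pow f 0
  refine ⟨val F ξ (basePt f ξ e) x, val_ext F ξ fun ζ => ?_⟩
  have h := d_val f F ξ 0 (extPt f ξ e 0 ζ) x
  rw [hx, map_zero, Fin.sum_univ_two, face_zero_extPt, face_one_extPt, Fin.val_zero, Fin.val_one, pow_zero,
    pow_one, one_smul, neg_one_smul] at h
  rw [aug_val_apply]
  exact (eq_of_sub_eq_zero (by rw [sub_eq_add_neg]; exact h.symm)).symm

theorem aug_injective : Function.Injective ((stalkF ξ).map (aug F (pow f 0))) := fun a b h => by
  rw [← aug_val_apply F ξ (basePt f ξ e) a, h, aug_val_apply]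

end Complex

section Resolution

variable {X Y : Scheme.{u}} (f : X ⟶ Y) (F : EtCoh.Ab Y) [IsIntegralHom f] [Surjective f]

theorem exact_augCx (i : ℕ) : (augCx f F).ExactAt i := by
  have he : ∀ y : Y, Nonempty (EtaleSplit.GPts f (geomPtAlg y)) := fun y => by
    obtain ⟨ζ, hζ⟩ := exists_comp_eq_integral f (geomPtAlg y) (f.surjective _)
    exact ⟨⟨ζ, hζ⟩⟩
  match i with
  | 0 =>
    rw [(augCx f F).exactAt_iff' 0 0 1 (by simp) (by simp)]
    refine exact_of_stalks_alg _ fun y => ?_
    rw [ShortComplex.ab_exact_iff]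
    intro v hv
    obtain ⟨e⟩ := he y
    refine ⟨0, ?_⟩
    rw [map_zero]
    exact (aug_injective f F (geomPtAlg y) e (hv.trans (map_zero _).symm)).symm
  | 1 =>
    rw [(augCx f F).exactAt_iff' 0 1 2 (by simp) (by simp)]
    refine exact_of_stalks_alg _ fun y => ?_
    rw [ShortComplex.ab_exact_iff]
    intro x hx
    obtain ⟨e⟩ := he y
    exact exists_preimage_zero f F (geomPtAlg y) e x hx
  | n + 2 =>
    rw [(augCx f F).exactAt_iff' (n + 1) (n + 2) (n + 3) (by simp) (by simp)]
    refine exact_of_stalks_alg _ fun y => ?_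
    rw [ShortComplex.ab_exact_iff]
    intro x hx
    obtain ⟨e⟩ := he y
    exact exists_preimage f F (geomPtAlg y) e n x hx

end Resolution

end Groth.Agent.EtIntDescLib
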