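import Groth.Agent.EtSecDescLib.Func

/-!
# The direct images of the inverse images of a sheaf, as a functor on schemes over the base
-/

set_option autoImplicit false
set_option backward.isDefEq.respectTransparency false
set_option backward.isDefEq.respectTransparency.types false

universe u

open CategoryTheory CategoryTheory.Limits AlgebraicGeometry Opposite Groth.Agent.EtLimLib
open Groth.Agent.EtSecDescLib

noncomputable section

namespace Groth.Agent.EtIntDescLib

theorem pushJoin_assoc {A B C D : Scheme.{u}} (a : B ⟶ A) (b : C ⟶ B) (c : D ⟶ C) (ab : C ⟶ A) (bc : D ⟶ B)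
    (abc : D ⟶ A) (w₁ : b ≫ a = ab) (w₂ : c ≫ b = bc) (w₃ : c ≫ ab = abc) (w₄ : bc ≫ a = abc)
    (G : EtCoh.Ab D) :
    pushJoin a b ab w₁ ((EtCoh.push c).obj G) ≫ pushJoin ab c abc w₃ G =
      (EtCoh.push a).map (pushJoin b c bc w₂ G) ≫ pushJoin a bc abc w₄ G := by
  haveI : Epi ((pushSp ab c abc w₃).app G ≫ (pushSp a b ab w₁).app ((EtCoh.push c).obj G)) := by
    haveI : Epi ((pushSp ab c abc w₃).app G) := epi_of_epi_fac (pushJoin_pushSp ab c abc w₃ G)
    haveI : Epi ((pushSp a b ab w₁).app ((EtCoh.push c).obj G)) :=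
      epi_of_epi_fac (pushJoin_pushSp a b ab w₁ ((EtCoh.push c).obj G))
    exact epi_comp _ _
  rw [← cancel_epi ((pushSp ab c abc w₃).app G ≫ (pushSp a b ab w₁).app ((EtCoh.push c).obj G))]
  conv_rhs => rw [pushSp_assoc a b c ab bc abc w₁ w₂ w₃ w₄ G]
  rw [Category.assoc, ← Category.assoc ((pushSp a b ab w₁).app ((EtCoh.push c).obj G)), pushSp_pushJoin]
  erw [Category.id_comp]
  rw [pushSp_pushJoin, Category.assoc, ← Category.assoc ((EtCoh.push a).map ((pushSp b c bc w₂).app G)),
    ← Functor.map_comp, pushSp_pushJoin, CategoryTheory.Functor.map_id]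
  erw [Category.id_comp]
  rw [pushSp_pushJoin]

variable {Y : Scheme.{u}} (F : EtCoh.Ab Y)

/-- The direct image to the base of an inverse image. -/
abbrev pushRes (Z : Over Y) : EtCoh.Ab Y := (EtCoh.push Z.hom).obj (res F Z)

/-- The transition maps. -/
def coface {Z Z' : Over Y} (g : Z' ⟶ Z) : pushRes F Z ⟶ pushRes F Z' :=
  (EtCoh.push Z.hom).map (psi F g) ≫ pushJoin Z.hom g.left Z'.hom (Over.w g) _

/-- The augmentation. -/
abbrev aug (Z : Over Y) : F ⟶ pushRes F Z := (EtCoh.pullPushAdj Z.hom).unit.app F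

theorem aug_coface {Z Z' : Over Y} (g : Z' ⟶ Z) : aug F Z ≫ coface F g = aug F Z' := by
  have h : aug F Z ≫ (EtCoh.push Z.hom).map (psi F g) =
      aug F Z' ≫ (pushSp Z.hom g.left Z'.hom (Over.w g)).app _ :=
    ((EtCoh.pullPushAdj Z.hom).homEquiv_unit _ _ _).symm.trans (Equiv.apply_symm_apply _ _)
  rw [coface, ← Category.assoc, h, Category.assoc, pushSp_pushJoin]
  exact Category.comp_id _

theorem coface_id (Z : Over Y) : coface F (𝟙 Z) = 𝟙 _ := by
  have h : (EtCoh.push Z.hom).map (toPushId.app (res F Z)) =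
      (pushSp Z.hom (𝟙 Z : Z ⟶ Z).left Z.hom (Over.w (𝟙 Z))).app (res F Z) := by
    refine ObjectProperty.hom_ext _ (NatTrans.ext (funext fun V => ?_))
    show (res F Z).obj.map (bcIdProj ((EtCoh.bc Z.hom).obj V.unop)).op =
      (res F Z).obj.map (bcSp Z.hom (𝟙 Z : Z ⟶ Z).left Z.hom _ V.unop).op
    congr 2
    exact (bc_ext Z.hom (bcSp_fst _ _ _ _ _)).symm
  rw [coface, psi_id, h, pushSp_pushJoin]

theorem coface_comp {Z Z' Z'' : Over Y} (g : Z' ⟶ Z) (f : Z'' ⟶ Z') :
    coface F (f ≫ g) = coface F g ≫ coface F f := by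
  rw [coface, coface, coface, psi_comp, Functor.map_comp, Functor.map_comp, Category.assoc, Category.assoc,
    Category.assoc, ← pushJoin_assoc Z.hom g.left f.left Z'.hom (f ≫ g).left Z''.hom (Over.w g) rfl (Over.w f)
      (Over.w (f ≫ g))]
  congr 1
  have hn : (EtCoh.push Z.hom).map ((EtCoh.push g.left).map (psi F f)) ≫
      pushJoin Z.hom g.left Z'.hom (Over.w g) _ = pushJoin Z.hom g.left Z'.hom (Over.w g) _ ≫
        (EtCoh.push Z'.hom).map (psi F f) := pushJoin_natural _ _ _ _ (psi F f)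
  rw [← Category.assoc, hn, Category.assoc]

/-- The functor. -/
def pushResFunctor : (Over Y)ᵒᵖ ⥤ EtCoh.Ab Y where
  obj Z := pushRes F Z.unop
  map g := coface F g.unop
  map_id Z := coface_id F Z.unop
  map_comp g f := coface_comp F g.unop f.unop

end Groth.Agent.EtIntDescLib
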