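import Groth.Agent.EtIntDescLib.PushFunctor
import Groth.Agent.EtPtsLib.IntegralBC
import Groth.Agent.EtPtsLib.IntegralUI

/-!
# Stalks of direct images of inverse images along integral maps: values at the points of the fibre
-/

set_option autoImplicit false
set_option backward.isDefEq.respectTransparency false
set_option backward.isDefEq.respectTransparency.types false

universe u

open CategoryTheory CategoryTheory.Limits AlgebraicGeometry Opposite GrothendieckTopology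
open Groth.Agent.EtLimLib Groth.Agent.EtSecDescLib
open Groth.Agent.EtPtsLib hiding fiber_map_injective

noncomputable section

namespace Groth.Agent.EtIntDescLib

variable {Y : Scheme.{u}} (F : EtCoh.Ab Y) {Ω : Type u} [Field Ω] [IsAlgClosed Ω]
  (ξ : Spec (CommRingCat.of Ω) ⟶ Y)

/-- The stalk. -/
abbrev stalkF : EtCoh.Ab Y ⥤ AddCommGrpCat.{u + 1} := (Scheme.pointSmallEtale ξ).sheafFiber

theorem stalk_map_germ {G G' : EtCoh.Ab Y} (a : G ⟶ G') (U : Y.Etale) (l : (Scheme.pointSmallEtale ξ).fiber.obj U)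
    (s : ToType (G.obj.obj (op U))) :
    (stalkF ξ).map a ((Scheme.pointSmallEtale ξ).toPresheafFiber U l G.obj s) =
      (Scheme.pointSmallEtale ξ).toPresheafFiber U l G'.obj (a.hom.app (op U) s) := by
  refine (ConcreteCategory.comp_apply _ _ s).symm.trans (Eq.trans ?_ (ConcreteCategory.comp_apply _ _ s))
  exact congrArg (fun m => (ConcreteCategory.hom m) s)
    (Point.toPresheafFiber_naturality (Scheme.pointSmallEtale ξ) a.hom U l)

variable {Z : Over Y} (ζ : EtaleSplit.GPts Z.hom ξ)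

/-- The germ at a point of the fibre of an element of the stalk of the direct image. -/
def germAt : (stalkF ξ).obj (pushRes F Z) ⟶ (Scheme.pointSmallEtale ζ.1).presheafFiber.obj (res F Z).obj :=
  pushStalkAt Z.hom ξ ζ _

theorem toPresheafFiber_germAt (U : Y.Etale) (l : (Scheme.pointSmallEtale ξ).fiber.obj U) :
    (Scheme.pointSmallEtale ξ).toPresheafFiber U l (pushRes F Z).obj ≫ germAt F ξ ζ =
      (Scheme.pointSmallEtale ζ.1).toPresheafFiber _ (liftBcAt Z.hom ξ ζ U l) (res F Z).obj :=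
  toPresheafFiber_pushStalkAt Z.hom ξ ζ _ U l

theorem germAt_germ (U : Y.Etale) (l : (Scheme.pointSmallEtale ξ).fiber.obj U)
    (s : ToType ((pushRes F Z).obj.obj (op U))) :
    germAt F ξ ζ ((Scheme.pointSmallEtale ξ).toPresheafFiber U l (pushRes F Z).obj s) =
      (Scheme.pointSmallEtale ζ.1).toPresheafFiber _ (liftBcAt Z.hom ξ ζ U l) (res F Z).obj s :=
  pushStalkAt_germ Z.hom ξ ζ _ U l s

/-- The stalk of the base maps to the stalk of the inverse image. -/
def unitAt : (stalkF ξ).obj F ⟶ (Scheme.pointSmallEtale ζ.1).presheafFiber.obj (res F Z).obj :=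
  (stalkF ξ).map (aug F Z) ≫ germAt F ξ ζ

theorem isIso_unitAt : IsIso (unitAt F ξ ζ) := by
  obtain ⟨z, hz⟩ := ζ
  subst hz
  have e : unitAt F (z ≫ Z.hom) ⟨z, rfl⟩ = unitStalk Z.hom z F := by
    refine (Scheme.pointSmallEtale (z ≫ Z.hom)).presheafFiber_hom_ext fun U l => ?_
    refine Eq.trans ?_ (toPresheafFiber_unitStalk Z.hom z F U l).symm
    refine (Point.toPresheafFiber_naturality_assoc (Scheme.pointSmallEtale (z ≫ Z.hom)) (aug F Z).hom U l _).trans ?_
    rw [toPresheafFiber_germAt]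
    rfl
  rw [e, ConcreteCategory.isIso_iff_bijective]
  exact bijective_unitStalk Z.hom z F

attribute [local instance] isIso_unitAt

/-- The value at a point of the fibre of an element of the stalk of the direct image. -/
def val : (stalkF ξ).obj (pushRes F Z) ⟶ (stalkF ξ).obj F :=
  germAt F ξ ζ ≫ inv (unitAt F ξ ζ)

theorem val_unitAt : val F ξ ζ ≫ unitAt F ξ ζ = germAt F ξ ζ := by
  rw [val, Category.assoc, IsIso.inv_hom_id, Category.comp_id]

theorem aug_val : (stalkF ξ).map (aug F Z) ≫ val F ξ ζ = 𝟙 _ := by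
  rw [val, ← Category.assoc]
  exact IsIso.hom_inv_id (unitAt F ξ ζ)

/-- The germ along a transition map. -/
def germAtRel {Z' : Over Y} (G : EtCoh.Ab Z'.left) (g : Z' ⟶ Z) (z : Spec (CommRingCat.of Ω) ⟶ Z'.left) :
    (Scheme.pointSmallEtale (z ≫ g.left)).presheafFiber.obj ((EtCoh.push g.left).obj G).obj ⟶
      (Scheme.pointSmallEtale z).presheafFiber.obj G.obj :=
  pushStalkAt g.left (z ≫ g.left) ⟨z, rfl⟩ _

omit [IsAlgClosed Ω] in
theorem toPresheafFiber_germAtRel [IsAlgClosed Ω] {Z' : Over Y} (G : EtCoh.Ab Z'.left) (g : Z' ⟶ Z)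
    (z : Spec (CommRingCat.of Ω) ⟶ Z'.left) (U : Z.left.Etale)
    (l : (Scheme.pointSmallEtale (z ≫ g.left)).fiber.obj U) :
    (Scheme.pointSmallEtale (z ≫ g.left)).toPresheafFiber U l ((EtCoh.push g.left).obj G).obj ≫ germAtRel G g z =
      (Scheme.pointSmallEtale z).toPresheafFiber _ (liftBcAt g.left (z ≫ g.left) ⟨z, rfl⟩ U l) G.obj :=
  toPresheafFiber_pushStalkAt g.left _ _ _ U l

/-- The image of a point of the fibre. -/
def mapPt {Z' : Over Y} (g : Z' ⟶ Z) (ζ' : EtaleSplit.GPts Z'.hom ξ) : EtaleSplit.GPts Z.hom ξ :=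
  ⟨ζ'.1 ≫ g.left, by rw [Category.assoc, Over.w g, ζ'.2]⟩

/-- The transition map on stalks at the points of the fibres. -/
def cofaceAt {Z' : Over Y} (g : Z' ⟶ Z) (ζ' : EtaleSplit.GPts Z'.hom ξ) :
    (Scheme.pointSmallEtale (mapPt ξ g ζ').1).presheafFiber.obj (res F Z).obj ⟶
      (Scheme.pointSmallEtale ζ'.1).presheafFiber.obj (res F Z').obj :=
  (Scheme.pointSmallEtale (ζ'.1 ≫ g.left)).presheafFiber.map (psi F g).hom ≫
    germAtRel (res F Z') g ζ'.1

theorem coface_germAt {Z' : Over Y} (g : Z' ⟶ Z) (ζ' : EtaleSplit.GPts Z'.hom ξ) :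
    (stalkF ξ).map (coface F g) ≫ germAt F ξ ζ' = germAt F ξ (mapPt ξ g ζ') ≫ cofaceAt F ξ g ζ' := by
  refine (Scheme.pointSmallEtale ξ).presheafFiber_hom_ext fun U l => ?_
  refine (Point.toPresheafFiber_naturality_assoc (Scheme.pointSmallEtale ξ) (coface F g).hom U l _).trans ?_
  rw [toPresheafFiber_germAt]
  erw [reassoc_of% toPresheafFiber_germAt F ξ (mapPt ξ g ζ') U l]
  rw [cofaceAt]
  erw [Point.toPresheafFiber_naturality_assoc, toPresheafFiber_germAtRel]
  simp only [coface, ObjectProperty.FullSubcategory.comp_hom, NatTrans.comp_app, Category.assoc]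
  refine congrArg ((psi F g).hom.app (op ((EtCoh.bc Z.hom).obj U)) ≫ ·) ?_
  show (res F Z').obj.map (bcSpInv Z.hom g.left Z'.hom (Over.w g) U).op ≫ _ = _
  rw [(Scheme.pointSmallEtale ζ'.1).toPresheafFiber_w]
  congr 1
  refine fiber_bc_ext g.left ζ'.1 (Eq.trans ?_ (liftHom_liftBcAt_fst g.left (ζ'.1 ≫ g.left) ⟨ζ'.1, rfl⟩
    ((EtCoh.bc Z.hom).obj U) (liftBcAt Z.hom ξ (mapPt ξ g ζ') U l)).symm)
  have h0 : liftHom ζ'.1 ((Scheme.pointSmallEtale ζ'.1).fiber.map (bcSpInv Z.hom g.left Z'.hom (Over.w g) U)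
        (liftBcAt Z'.hom ξ ζ' U l)) ≫ bcFst g.left ((EtCoh.bc Z.hom).obj U) =
      liftHom ζ'.1 (liftBcAt Z'.hom ξ ζ' U l) ≫ pullback.lift (pullback.fst U.hom Z'.hom)
        (pullback.snd U.hom Z'.hom ≫ g.left) (by rw [Category.assoc, Over.w g]; exact pullback.condition) :=
    (Category.assoc _ _ _).trans (congrArg (_ ≫ ·) (bcSpInv_fst Z.hom g.left Z'.hom (Over.w g) U))
  refine Eq.trans h0 (pullback.hom_ext ?_ ?_)
  · refine ((Category.assoc _ _ _).trans (congrArg (_ ≫ ·) (pullback.lift_fst _ _ _))).trans ?_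
    exact (liftHom_liftBcAt_fst Z'.hom ξ ζ' U l).trans (liftHom_liftBcAt_fst Z.hom ξ (mapPt ξ g ζ') U l).symm
  · refine ((Category.assoc _ _ _).trans (congrArg (_ ≫ ·) (pullback.lift_snd _ _ _))).trans ?_
    refine (Category.assoc _ _ _).symm.trans ?_
    exact (congrArg (· ≫ g.left) (pullback.lift_snd _ _ _)).trans (pullback.lift_snd _ _ _).symm

theorem coface_val {Z' : Over Y} (g : Z' ⟶ Z) (ζ' : EtaleSplit.GPts Z'.hom ξ) :
    (stalkF ξ).map (coface F g) ≫ val F ξ ζ' = val F ξ (mapPt ξ g ζ') := by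
  have h1 : unitAt F ξ (mapPt ξ g ζ') ≫ cofaceAt F ξ g ζ' = unitAt F ξ ζ' := by
    rw [unitAt, unitAt, Category.assoc, ← coface_germAt F ξ g ζ', ← Category.assoc, ← Functor.map_comp,
      aug_coface]
  rw [← cancel_mono (unitAt F ξ ζ'), Category.assoc, val_unitAt, coface_germAt F ξ g ζ', ← h1,
    ← Category.assoc, val_unitAt]

variable (Z)

/-- A locally constant family of values on the fibre. -/
def IsLocConst (a : EtaleSplit.GPts Z.hom ξ → ToType ((stalkF ξ).obj F)) : Prop :=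
  ∀ ζ₀, ∃ O : Set ↥(pullback Z.hom ξ), IsOpen O ∧ gptPoint Z.hom ξ ζ₀ ∈ O ∧
    ∀ ζ, gptPoint Z.hom ξ ζ ∈ O → a ζ = a ζ₀

variable {Z}

theorem isLocConst_val (x : ToType ((stalkF ξ).obj (pushRes F Z))) :
    IsLocConst F ξ Z (fun ζ => val F ξ ζ x) := by
  intro ζ₀
  obtain ⟨U, l, s, rfl⟩ := (Scheme.pointSmallEtale ξ).toPresheafFiber_jointly_surjective x
  obtain ⟨U', l', s', hs'⟩ := (Scheme.pointSmallEtale ξ).toPresheafFiber_jointly_surjective
    (val F ξ ζ₀ ((Scheme.pointSmallEtale ξ).toPresheafFiber U l (pushRes F Z).obj s))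
  let x := (Scheme.pointSmallEtale ξ).toPresheafFiber U l (pushRes F Z).obj s
  let x' := (stalkF ξ).map (aug F Z) (val F ξ ζ₀ x)
  obtain ⟨S, lS, k, hk⟩ := exists_refine_nbhd ξ (ι := Bool) (fun b => cond b U U')
    (fun b => match b with | true => l | false => l')
  let G := (pushRes F Z).obj
  let σ₁ : ToType ((res F Z).obj.obj (op ((EtCoh.bc Z.hom).obj S))) := G.map (k true).op s
  let σ₂ : ToType ((res F Z).obj.obj (op ((EtCoh.bc Z.hom).obj S))) :=
    G.map (k false).op ((aug F Z).hom.app (op U') s')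
  have hx : (Scheme.pointSmallEtale ξ).toPresheafFiber S lS G σ₁ = x := by
    rw [(Scheme.pointSmallEtale ξ).toPresheafFiber_w_apply, hk true]
    rfl
  have hx' : (Scheme.pointSmallEtale ξ).toPresheafFiber S lS G σ₂ = x' := by
    rw [(Scheme.pointSmallEtale ξ).toPresheafFiber_w_apply, hk false]
    show _ = (stalkF ξ).map (aug F Z) (val F ξ ζ₀ x)
    rw [← hs']
    exact (stalk_map_germ ξ (aug F Z) U' l' s').symm
  have key : ∀ ζ : EtaleSplit.GPts Z.hom ξ, val F ξ ζ x = val F ξ ζ₀ x ↔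
      gptPoint Z.hom ξ ζ ∈ fibreMap Z.hom ξ S lS ⁻¹' agree (res F Z).obj σ₁ σ₂ := by
    intro ζ
    rw [Set.mem_preimage, fibreMap_gptPoint,
      ← germ_eq_iff_mem_agree ζ.1 (res F Z).obj (liftBcAt Z.hom ξ ζ S lS) σ₁ σ₂,
      ← germAt_germ F ξ ζ S lS σ₁, ← germAt_germ F ξ ζ S lS σ₂]
    erw [hx, hx']
    constructor
    · intro h
      show germAt F ξ ζ x = unitAt F ξ ζ (val F ξ ζ₀ x)
      rw [← h, ← ConcreteCategory.comp_apply (val F ξ ζ), val_unitAt]
    · intro h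
      have hb := (ConcreteCategory.bijective_of_isIso (unitAt F ξ ζ)).1
      apply hb
      rw [← ConcreteCategory.comp_apply (val F ξ ζ), val_unitAt]
      exact h
  exact ⟨_, (isOpen_agree _ σ₁ σ₂).preimage (fibreMap Z.hom ξ S lS).continuous, (key ζ₀).1 rfl,
    fun ζ hζ => (key ζ).2 hζ⟩

variable [IsIntegralHom Z.hom]

theorem isSheaf_res : Presieve.IsSheaf Z.left.smallEtaleTopology ((res F Z).obj ⋙ forget AddCommGrpCat.{u + 1}) :=
  (isSheaf_iff_isSheaf_of_type _ _).1 ((sheafCompose _ (forget AddCommGrpCat.{u + 1})).obj (res F Z)).2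

theorem val_ext {x y : ToType ((stalkF ξ).obj (pushRes F Z))}
    (h : ∀ ζ, val F ξ ζ x = val F ξ ζ y) : x = y := by
  refine stalk_ext Z.hom ξ (res F Z).obj (isSheaf_res F) fun ζ => ?_
  have := congrArg (unitAt F ξ ζ) (h ζ)
  rwa [← ConcreteCategory.comp_apply, ← ConcreteCategory.comp_apply, val_unitAt] at this

theorem exists_of_isLocConst (a : EtaleSplit.GPts Z.hom ξ → ToType ((stalkF ξ).obj F))
    (ha : IsLocConst F ξ Z a) : ∃ x, ∀ ζ, val F ξ ζ x = a ζ := by
  obtain ⟨x, hx⟩ := stalk_exists Z.hom ξ (res F Z).obj (isSheaf_res F) (fun ζ => unitAt F ξ ζ (a ζ)) fun p => by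
    obtain ⟨ζ₀, rfl⟩ := exists_gpt_point Z.hom ξ p
    obtain ⟨O, hO, h0, hconst⟩ := ha ζ₀
    obtain ⟨U, l, s, hs⟩ := (Scheme.pointSmallEtale ξ).toPresheafFiber_jointly_surjective (a ζ₀)
    obtain ⟨S, lS, k, W, hk, hW, -, hpW, hWO⟩ := exists_clopen_sub Z.hom ξ U l ⊤ isClosed_univ O hO _ h0 trivial
    refine ⟨S, lS, W, (res F Z).obj.map (openIncl _ W).op ((aug F Z).hom.app (op S) (F.obj.map k.op s)),
      fibreMap Z.hom ξ S lS ⁻¹' W.carrier, hW, W.2.preimage (fibreMap Z.hom ξ S lS).continuous, hpW, hpW,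
      fun ζ hζ y hy => ?_⟩
    rw [(Scheme.pointSmallEtale ζ.1).toPresheafFiber_w_apply, hy, hconst ζ (hWO _ hζ), ← hs, ← hk,
      ← (Scheme.pointSmallEtale ξ).toPresheafFiber_w_apply]
    refine ((germAt_germ F ξ ζ S lS _).symm.trans ?_)
    show _ = germAt F ξ ζ ((stalkF ξ).map (aug F Z) _)
    refine congrArg _ ?_
    exact (stalk_map_germ ξ (aug F Z) S lS _).symm
  refine ⟨x, fun ζ => ?_⟩
  apply (ConcreteCategory.bijective_of_isIso (unitAt F ξ ζ)).1
  rw [← ConcreteCategory.comp_apply, val_unitAt]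
  exact hx ζ

end Groth.Agent.EtIntDescLib
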